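import Groth.Prelude.Def_W4c6intromoduliQuartic
import Mathlib.Tactic.Ring
import Mathlib.Tactic.LinearCombination
import Mathlib.Tactic.FinCases
import Mathlib.LinearAlgebra.Matrix.NonsingularInverse
import Mathlib.Algebra.BigOperators.Fin

/-!
# Split binary quartics through brackets of their root points
-/

open W4c6intromoduli

universe u

namespace Groth.Agent.Quartic28

variable {R : Type u} [CommRing R]

/-- The bracket of two root points. -/
def br (la mu : Fin 4 → R) (i j : Fin 4) : R := la i * mu j - la j * mu i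

/-- The three products of complementary brackets. -/
def pA (la mu : Fin 4 → R) : R := br la mu 0 1 * br la mu 2 3

/-- The three products of complementary brackets. -/
def pB (la mu : Fin 4 → R) : R := br la mu 0 2 * br la mu 3 1

/-- The three products of complementary brackets. -/
def pC (la mu : Fin 4 → R) : R := br la mu 0 3 * br la mu 1 2

lemma pA_add_pB_add_pC (la mu : Fin 4 → R) : pA la mu + pB la mu + pC la mu = 0 := by
  simp only [pA, pB, pC, br]; ring

lemma coef_vals (la mu : Fin 4 → R) :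
    coef la mu 0 = mu 0 * mu 1 * mu 2 * mu 3 ∧
    coef la mu 1 = -(la 0 * mu 1 * mu 2 * mu 3 + mu 0 * la 1 * mu 2 * mu 3 + mu 0 * mu 1 * la 2 * mu 3 +
      mu 0 * mu 1 * mu 2 * la 3) ∧
    coef la mu 2 = la 0 * la 1 * mu 2 * mu 3 + la 0 * mu 1 * la 2 * mu 3 + la 0 * mu 1 * mu 2 * la 3 +
      mu 0 * la 1 * la 2 * mu 3 + mu 0 * la 1 * mu 2 * la 3 + mu 0 * mu 1 * la 2 * la 3 ∧
    coef la mu 3 = -(la 0 * la 1 * la 2 * mu 3 + la 0 * la 1 * mu 2 * la 3 + la 0 * mu 1 * la 2 * la 3 +
      mu 0 * la 1 * la 2 * la 3) ∧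
    coef la mu 4 = la 0 * la 1 * la 2 * la 3 := by
  open Polynomial in
  have e : rootPoly la mu = C (mu 0 * mu 1 * mu 2 * mu 3) +
      C (-(la 0 * mu 1 * mu 2 * mu 3 + mu 0 * la 1 * mu 2 * mu 3 + mu 0 * mu 1 * la 2 * mu 3 +
        mu 0 * mu 1 * mu 2 * la 3)) * X +
      C (la 0 * la 1 * mu 2 * mu 3 + la 0 * mu 1 * la 2 * mu 3 + la 0 * mu 1 * mu 2 * la 3 +
        mu 0 * la 1 * la 2 * mu 3 + mu 0 * la 1 * mu 2 * la 3 + mu 0 * mu 1 * la 2 * la 3) * X ^ 2 +
      C (-(la 0 * la 1 * la 2 * mu 3 + la 0 * la 1 * mu 2 * la 3 + la 0 * mu 1 * la 2 * la 3 +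
        mu 0 * la 1 * la 2 * la 3)) * X ^ 3 +
      C (la 0 * la 1 * la 2 * la 3) * X ^ 4 := by
    rw [rootPoly, Fin.prod_univ_four]
    simp only [map_add, map_mul, map_neg]
    ring
  simp only [coef, e, Polynomial.coeff_add, Polynomial.coeff_C_mul_X_pow, Polynomial.coeff_C,
    Polynomial.coeff_C_mul_X]
  simp

lemma invI_eq (la mu : Fin 4 → R) :
    invI (coef la mu) = pA la mu ^ 2 + pA la mu * pB la mu + pB la mu ^ 2 := by
  obtain ⟨h0, h1, h2, h3, h4⟩ := coef_vals la mu
  simp only [invI, h0, h1, h2, h3, h4, pA, pB, br]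
  ring

lemma invJ_eq (la mu : Fin 4 → R) :
    invJ (coef la mu) = (pA la mu - pB la mu) * (pA la mu + 2 * pB la mu) * (-2 * pA la mu - pB la mu) := by
  obtain ⟨h0, h1, h2, h3, h4⟩ := coef_vals la mu
  simp only [invJ, h0, h1, h2, h3, h4, pA, pB, br]
  ring

lemma disc_eq (la mu : Fin 4 → R) :
    disc la mu = (pA la mu * pB la mu * pC la mu) ^ 2 := by
  have e : (Finset.univ.filter fun p : Fin 4 × Fin 4 => p.1 < p.2) =
      {(0, 1), (0, 2), (0, 3), (1, 2), (1, 3), (2, 3)} := by decide
  rw [disc, e]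
  simp only [pA, pB, pC, br]
  rw [Finset.prod_insert (by decide), Finset.prod_insert (by decide), Finset.prod_insert (by decide),
    Finset.prod_insert (by decide), Finset.prod_insert (by decide), Finset.prod_singleton]
  ring

lemma binForm_comp (la mu : Fin 4 → R) (σ : Equiv.Perm (Fin 4)) :
    binForm (la ∘ σ) (mu ∘ σ) = binForm la mu := by
  rw [binForm, binForm]
  exact Fintype.prod_equiv σ _ _ fun i => rfl

section Field

variable {k : Type u} [Field k]

/-- Three of the four points coincide if two of the products vanish. -/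
theorem exists_triple {la mu : Fin 4 → k} (ha : pA la mu = 0) (hb : pB la mu = 0) :
    ∃ i j l : Fin 4, i ≠ j ∧ j ≠ l ∧ i ≠ l ∧ la i * mu j = la j * mu i ∧ la j * mu l = la l * mu j := by
  simp only [pA, pB, br, mul_eq_zero, sub_eq_zero] at ha hb
  rcases ha with h | h <;> rcases hb with h' | h'
  · exact ⟨1, 0, 2, by decide, by decide, by decide, h.symm, h'⟩
  · exact ⟨0, 1, 3, by decide, by decide, by decide, h, h'.symm⟩
  · exact ⟨0, 2, 3, by decide, by decide, by decide, h', h⟩
  · exact ⟨2, 3, 1, by decide, by decide, by decide, h, h'⟩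

/-- Coinciding points kill two of the products. -/
theorem pA_pB_of_triple {la mu : Fin 4 → k} (hne : ∀ i, la i ≠ 0 ∨ mu i ≠ 0) {i j l : Fin 4} (hij : i ≠ j)
    (hjl : j ≠ l) (hil : i ≠ l) (h : la i * mu j = la j * mu i) (h' : la j * mu l = la l * mu j) :
    pA la mu = 0 ∧ pB la mu = 0 := by
  have h'' : la i * mu l = la l * mu i := by
    rcases hne j with hj | hj
    · refine mul_left_cancel₀ hj ?_
      linear_combination la l * h + la i * h'
    · refine mul_left_cancel₀ hj ?_
      linear_combination mu l * h + mu i * h'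
  have key : ∀ a b : Fin 4, (a = i ∨ a = j ∨ a = l) → (b = i ∨ b = j ∨ b = l) → br la mu a b = 0 := by
    intro a b ha hb
    rcases ha with rfl | rfl | rfl <;> rcases hb with rfl | rfl | rfl <;>
      simp only [br, sub_eq_zero] <;>
      first | rfl | exact h | exact h' | exact h'' | exact h.symm | exact h'.symm | exact h''.symm
  have cover : ∀ a b c d : Fin 4, a ≠ b → a ≠ c → a ≠ d → b ≠ c → b ≠ d → c ≠ d →
      ((a = i ∨ a = j ∨ a = l) ∧ (b = i ∨ b = j ∨ b = l)) ∨ ((c = i ∨ c = j ∨ c = l) ∧ (d = i ∨ d = j ∨ d = l)) := by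
    revert hij hjl hil
    clear key h h' h''
    revert i j l
    decide
  constructor
  · rcases cover 0 1 2 3 (by decide) (by decide) (by decide) (by decide) (by decide) (by decide) with ⟨p, q⟩ | ⟨p, q⟩ <;>
      simp [pA, key _ _ p q]
  · rcases cover 0 2 3 1 (by decide) (by decide) (by decide) (by decide) (by decide) (by decide) with ⟨p, q⟩ | ⟨p, q⟩ <;>
      simp [pB, key _ _ p q]

/-- Root points with proportional products are related by a substitution. -/
theorem equiv_of_ratio {la mu la' mu' : Fin 4 → k} (hd : disc la mu ≠ 0) (hd' : disc la' mu' ≠ 0)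
    (h : pA la' mu' * pB la mu = pB la' mu' * pA la mu) :
    ∃ (M : Matrix (Fin 2) (Fin 2) k) (c : k), IsUnit M.det ∧ c ≠ 0 ∧
      binForm la' mu' = MvPolynomial.C c * subst M (binForm la mu) := by
  rw [disc_eq, pA, pB, pC, pow_ne_zero_iff two_ne_zero, mul_ne_zero_iff, mul_ne_zero_iff] at hd hd'
  simp only [mul_ne_zero_iff] at hd hd'
  obtain ⟨⟨⟨d01, d23⟩, d02, d31⟩, d03, d12⟩ := hd
  obtain ⟨⟨⟨e01, e23⟩, e02, e31⟩, e03, e12⟩ := hd'
  have pl : pA la mu + pB la mu + pC la mu = 0 := pA_add_pB_add_pC la mu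
  have pl' : pA la' mu' + pB la' mu' + pC la' mu' = 0 := pA_add_pB_add_pC la' mu'
  have hbc : pC la' mu' * pB la mu = pB la' mu' * pC la mu := by
    linear_combination pB la mu * pl' - pB la' mu' * pl - h
  have d21 : br la mu 2 1 ≠ 0 := by
    rw [show br la mu 2 1 = -br la mu 1 2 by simp [br]]; exact neg_ne_zero.2 d12
  have e21 : br la' mu' 2 1 ≠ 0 := by
    rw [show br la' mu' 2 1 = -br la' mu' 1 2 by simp [br]]; exact neg_ne_zero.2 e12
  -- the linear map on forms
  set s0 := br la mu 0 1 * br la' mu' 2 1 / (br la mu 2 1 * br la' mu' 0 1) with hs0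
  set s1 := br la mu 0 1 * br la' mu' 0 2 / (br la mu 0 2 * br la' mu' 0 1) with hs1
  have hs0' : s0 ≠ 0 := div_ne_zero (mul_ne_zero d01 e21) (mul_ne_zero d21 e01)
  have hs1' : s1 ≠ 0 := div_ne_zero (mul_ne_zero d01 e02) (mul_ne_zero d02 e01)
  let M : Matrix (Fin 2) (Fin 2) k :=
    !![(-la 1 * (s0 * mu' 0) + la 0 * (s1 * mu' 1)) / br la mu 0 1,
       (-la 1 * (s0 * -la' 0) + la 0 * (s1 * -la' 1)) / br la mu 0 1;
       (-mu 1 * (s0 * mu' 0) + mu 0 * (s1 * mu' 1)) / br la mu 0 1,
       (-mu 1 * (s0 * -la' 0) + mu 0 * (s1 * -la' 1)) / br la mu 0 1]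
  set γ := br la mu 3 1 * br la' mu' 2 1 / (br la mu 2 1 * br la' mu' 3 1) with hγ
  have hγ' : γ ≠ 0 := div_ne_zero (mul_ne_zero d31 e21) (mul_ne_zero d21 e31)
  -- images of the rows
  have him : ∀ u v : k, MvPolynomial.C u * subst M (MvPolynomial.X 0) - MvPolynomial.C v * subst M (MvPolynomial.X 1) =
      MvPolynomial.C (u * M 0 0 - v * M 1 0) * MvPolynomial.X 0 +
        MvPolynomial.C (u * M 0 1 - v * M 1 1) * MvPolynomial.X 1 := fun u v => by
    simp only [subst, MvPolynomial.aeval_X, Fin.sum_univ_two, map_sub, map_mul]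
    ring
  let vec : Fin 4 → k := ![s0, s1, (1 : k), γ]
  have hA : ∀ i, br la mu i 1 * s0 * br la' mu' 0 1 = vec i * br la' mu' i 1 * br la mu 0 1 := by
    intro i
    fin_cases i
    · simp [vec]; ring
    · simp [vec, br]
    · simp only [vec, hs0, Fin.isValue, Matrix.cons_val, Fin.reduceFinMk]
      field_simp
    · simp only [vec, hs0, hγ, Fin.isValue, Matrix.cons_val, Fin.reduceFinMk]
      field_simp
  have hB : ∀ i, br la mu 0 i * s1 * br la' mu' 0 1 = vec i * br la' mu' 0 i * br la mu 0 1 := by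
    intro i
    fin_cases i
    · simp [vec, br]
    · simp [vec]; ring
    · simp only [vec, hs1, Fin.isValue, Matrix.cons_val, Fin.reduceFinMk]
      field_simp
    · simp only [vec, hs1, hγ, Fin.isValue, Matrix.cons_val, Fin.reduceFinMk]
      field_simp
      simp only [pC, pB, show br la mu 2 1 = -br la mu 1 2 by simp [br],
        show br la' mu' 2 1 = -br la' mu' 1 2 by simp [br]] at hbc ⊢
      linear_combination hbc
  have hM0 : ∀ i, mu i * M 0 0 - la i * M 1 0 = vec i * mu' i := by
    intro i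
    have e : mu i * M 0 0 - la i * M 1 0 =
        (br la mu i 1 * s0 * mu' 0 + br la mu 0 i * s1 * mu' 1) / br la mu 0 1 := by
      simp only [M, Matrix.cons_val', Matrix.cons_val_zero, Matrix.cons_val_one, Matrix.cons_val_fin_one, Matrix.of_apply]
      field_simp
      simp only [br]
      ring
    rw [e, div_eq_iff d01]
    refine mul_right_cancel₀ e01 ?_
    have hid : mu' i * br la' mu' 0 1 = br la' mu' i 1 * mu' 0 + br la' mu' 0 i * mu' 1 := by simp only [br]; ring
    linear_combination mu' 0 * hA i + mu' 1 * hB i - vec i * br la mu 0 1 * hid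
  have hM1 : ∀ i, mu i * M 0 1 - la i * M 1 1 = -(vec i * la' i) := by
    intro i
    have e : mu i * M 0 1 - la i * M 1 1 =
        -((br la mu i 1 * s0 * la' 0 + br la mu 0 i * s1 * la' 1) / br la mu 0 1) := by
      simp only [M, Matrix.cons_val', Matrix.cons_val_zero, Matrix.cons_val_one, Matrix.cons_val_fin_one, Matrix.of_apply]
      field_simp
      simp only [br]
      ring
    rw [e, neg_inj, div_eq_iff d01]
    refine mul_right_cancel₀ e01 ?_
    have hid : la' i * br la' mu' 0 1 = br la' mu' i 1 * la' 0 + br la' mu' 0 i * la' 1 := by simp only [br]; ring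
    linear_combination la' 0 * hA i + la' 1 * hB i - vec i * br la mu 0 1 * hid
  have row : ∀ i, MvPolynomial.C (mu i) * subst M (MvPolynomial.X 0) - MvPolynomial.C (la i) * subst M (MvPolynomial.X 1) =
      MvPolynomial.C (vec i) *
        (MvPolynomial.C (mu' i) * MvPolynomial.X 0 - MvPolynomial.C (la' i) * MvPolynomial.X 1) := by
    intro i
    rw [him, hM0, hM1, map_neg, map_mul, map_mul]
    ring
  refine ⟨M, (s0 * s1 * γ)⁻¹, ?_, inv_ne_zero (mul_ne_zero (mul_ne_zero hs0' hs1') hγ'), ?_⟩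
  · rw [isUnit_iff_ne_zero, Matrix.det_fin_two]
    have : M 0 0 * M 1 1 - M 0 1 * M 1 0 = s0 * s1 * br la' mu' 0 1 / br la mu 0 1 := by
      simp only [M, Matrix.cons_val', Matrix.cons_val_zero, Matrix.cons_val_one, Matrix.cons_val_fin_one, Matrix.of_apply]
      field_simp
      simp only [br]
      ring
    rw [this]
    exact div_ne_zero (mul_ne_zero (mul_ne_zero hs0' hs1') e01) d01
  · have e : subst M (binForm la mu) = MvPolynomial.C (s0 * s1 * γ) * binForm la' mu' := by
      rw [binForm, map_prod, Fin.prod_univ_four]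
      simp only [map_sub, map_mul, show ∀ c : k, subst M (MvPolynomial.C c) = MvPolynomial.C c from
        fun c => (subst M).commutes c, row]
      simp only [vec, binForm, Fin.prod_univ_four, Matrix.cons_val_zero, Matrix.cons_val_one, Matrix.cons_val, map_one]
      ring
    rw [e, ← mul_assoc, ← map_mul, inv_mul_cancel₀ (mul_ne_zero (mul_ne_zero hs0' hs1') hγ'), map_one, one_mul]

end Field

end Groth.Agent.Quartic28
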