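import Groth.Agent.Lib.Quartic28.Basic
import Mathlib.Algebra.MvPolynomial.PDeriv

/-!
# Orbits of binary quartics
-/

open W4c6intromoduli

universe u

namespace Groth.Agent.Quartic28

variable {k : Type u} [Field k]

theorem equiv_of_invariants (h3 : (3 : k) ≠ 0) {la mu la' mu' : Fin 4 → k} (hd : disc la mu ≠ 0)
    (hd' : disc la' mu' ≠ 0)
    (h : invI (coef la mu) ^ 3 * invJ (coef la' mu') ^ 2 = invI (coef la' mu') ^ 3 * invJ (coef la mu) ^ 2) :
    ∃ (M : Matrix (Fin 2) (Fin 2) k) (c : k), IsUnit M.det ∧ c ≠ 0 ∧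
      binForm la' mu' = MvPolynomial.C c * subst M (binForm la mu) := by
  set a := pA la mu with ha
  set b := pB la mu with hb
  set c := pC la mu with hc
  set a' := pA la' mu' with ha'
  set b' := pB la' mu' with hb'
  set c' := pC la' mu' with hc'
  have hsum : a + b + c = 0 := pA_add_pB_add_pC la mu
  have hsum' : a' + b' + c' = 0 := pA_add_pB_add_pC la' mu'
  rw [invI_eq, invJ_eq, invI_eq, invJ_eq, ← ha, ← hb, ← ha', ← hb'] at h
  have h27 : (27 : k) ≠ 0 := by
    have : (3 : k) ^ 3 ≠ 0 := pow_ne_zero 3 h3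
    norm_num at this ⊢; exact this
  have hc1 : c = -a - b := by linear_combination hsum
  have hc1' : c' = -a' - b' := by linear_combination hsum'
  have hprod : (a' * b - b' * a) * (a' * c - b' * b) * (a' * a - b' * c) *
      (a' * c - b' * a) * (a' * b - b' * c) * (a' * a - b' * b) = 0 := by
    refine mul_left_cancel₀ h27 ?_
    rw [hc1, mul_zero]
    linear_combination h
  have key : ∀ π : Fin 4 → Fin 4, Function.Bijective π →
      a' * pB (la ∘ π) (mu ∘ π) = b' * pA (la ∘ π) (mu ∘ π) →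
      ∃ (M : Matrix (Fin 2) (Fin 2) k) (e : k), IsUnit M.det ∧ e ≠ 0 ∧
        binForm la' mu' = MvPolynomial.C e * subst M (binForm la mu) := by
    intro π hπ hr
    let σ := Equiv.ofBijective π hπ
    have hd1 : disc (la ∘ π) (mu ∘ π) ≠ 0 := by
      rw [disc_eq, pA, pB, pC, pow_ne_zero_iff two_ne_zero]
      have hbr : ∀ i j : Fin 4, i ≠ j → br la mu i j ≠ 0 := by
        intro i j hij h0
        simp only [br, sub_eq_zero] at h0
        refine hd ?_
        rw [disc, Finset.prod_eq_zero_iff]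
        rcases lt_or_gt_of_ne hij with hlt | hlt
        · exact ⟨(i, j), by simpa using hlt, by rw [h0]; ring⟩
        · exact ⟨(j, i), by simpa using hlt, by rw [h0]; ring⟩
      have hbr' : ∀ i j : Fin 4, i ≠ j → br (la ∘ π) (mu ∘ π) i j ≠ 0 := fun i j hij =>
        hbr _ _ (hπ.1.ne hij)
      simp only [mul_ne_zero_iff]
      exact ⟨⟨⟨hbr' 0 1 (by decide), hbr' 2 3 (by decide)⟩, hbr' 0 2 (by decide), hbr' 3 1 (by decide)⟩,
        hbr' 0 3 (by decide), hbr' 1 2 (by decide)⟩
    obtain ⟨M, e, hM, he, hf⟩ := equiv_of_ratio hd1 hd' hr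
    exact ⟨M, e, hM, he, by rw [hf, show (la ∘ π) = la ∘ σ from rfl, show (mu ∘ π) = mu ∘ σ from rfl, binForm_comp]⟩
  have e1 : ∀ (i j : Fin 4), br la mu i j = -br la mu j i := fun i j => by simp [br]
  simp only [mul_eq_zero, sub_eq_zero] at hprod
  rcases hprod with ((((h | h) | h) | h) | h) | h
  · exact key ![0, 1, 2, 3] (by decide) (by simpa [pA, pB, br, ha, hb] using h)
  · refine key ![0, 2, 3, 1] (by decide) ?_
    simp only [hb, hc, pA, pB, pC, br] at h
    simp [pA, pB, br]
    linear_combination h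
  · refine key ![0, 3, 1, 2] (by decide) ?_
    simp only [ha, hc, pA, pB, pC, br] at h
    simp [pA, pB, br]
    linear_combination h
  · refine key ![0, 1, 3, 2] (by decide) ?_
    simp only [ha, hc, pA, pB, pC, br] at h
    simp [pA, pB, br]
    linear_combination -h
  · refine key ![0, 3, 2, 1] (by decide) ?_
    simp only [hb, hc, pA, pB, pC, br] at h
    simp [pA, pB, br]
    linear_combination -h
  · refine key ![0, 2, 1, 3] (by decide) ?_
    simp only [ha, hb, pA, pB, pC, br] at h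
    simp [pA, pB, br]
    linear_combination -h

lemma subst_X (M : Matrix (Fin 2) (Fin 2) k) (i : Fin 2) :
    subst M (MvPolynomial.X i) = MvPolynomial.C (M i 0) * MvPolynomial.X 0 + MvPolynomial.C (M i 1) * MvPolynomial.X 1 := by
  simp [subst, Fin.sum_univ_two]

lemma subst_C (M : Matrix (Fin 2) (Fin 2) k) (c : k) : subst M (MvPolynomial.C c) = MvPolynomial.C c :=
  (subst M).commutes c

lemma subst_inv {M : Matrix (Fin 2) (Fin 2) k} (hM : IsUnit M.det) (f : MvPolynomial (Fin 2) k) :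
    subst M⁻¹ (subst M f) = f := by
  refine DFunLike.congr_fun (?_ : (subst M⁻¹).comp (subst M) = AlgHom.id k _) f
  refine MvPolynomial.algHom_ext fun i => ?_
  simp only [AlgHom.comp_apply, subst_X, map_add, map_mul, subst_C, AlgHom.id_apply]
  have h : ∀ l, M i 0 * M⁻¹ 0 l + M i 1 * M⁻¹ 1 l = if i = l then 1 else 0 := fun l => by
    rw [← Matrix.one_apply, ← Matrix.mul_nonsing_inv M hM, Matrix.mul_apply, Fin.sum_univ_two]
  have h0 := congrArg (MvPolynomial.C (σ := Fin 2)) (h 0)
  have h1 := congrArg (MvPolynomial.C (σ := Fin 2)) (h 1)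
  simp only [map_add, map_mul, apply_ite (MvPolynomial.C (σ := Fin 2)), map_zero, map_one] at h0 h1
  have key : (MvPolynomial.X i : MvPolynomial (Fin 2) k) =
      (if i = 0 then 1 else 0) * MvPolynomial.X 0 + (if i = 1 then 1 else 0) * MvPolynomial.X 1 := by
    fin_cases i <;> simp
  rw [key]
  linear_combination MvPolynomial.X (0 : Fin 2) * h0 + MvPolynomial.X (1 : Fin 2) * h1

/-- The two degenerate forms are inequivalent. -/
theorem not_both {f : MvPolynomial (Fin 2) k}
    (h1 : ∃ (M : Matrix (Fin 2) (Fin 2) k) (c : k), IsUnit M.det ∧ c ≠ 0 ∧ f = MvPolynomial.C c * subst M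
      (MvPolynomial.X 0 ^ 2 * MvPolynomial.X 1 * (MvPolynomial.X 0 - MvPolynomial.X 1)))
    (h2 : ∃ (M : Matrix (Fin 2) (Fin 2) k) (c : k), IsUnit M.det ∧ c ≠ 0 ∧ f = MvPolynomial.C c * subst M
      (MvPolynomial.X 0 ^ 2 * MvPolynomial.X 1 ^ 2)) : False := by
  obtain ⟨M, c, hM, hc, rfl⟩ := h1
  obtain ⟨N, d, -, -, h⟩ := h2
  have h' := congrArg (fun z => MvPolynomial.C c⁻¹ * subst M⁻¹ z) h
  simp only [map_mul (subst M⁻¹), subst_C, subst_inv hM] at h'
  rw [← mul_assoc, ← map_mul, inv_mul_cancel₀ hc, map_one, one_mul,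
    show (MvPolynomial.X 0 ^ 2 * MvPolynomial.X 1 ^ 2 : MvPolynomial (Fin 2) k) =
      (MvPolynomial.X 0 * MvPolynomial.X 1) ^ 2 by ring, map_pow, map_pow, ← mul_assoc, ← map_mul] at h'
  set q := subst M⁻¹ (subst N (MvPolynomial.X 0 * MvPolynomial.X 1))
  have e0 := congrArg (MvPolynomial.eval ![1, 0]) h'
  simp at e0
  have e1 := congrArg (fun z => MvPolynomial.eval ![(1 : k), 0] (MvPolynomial.pderiv 1 z)) h'
  simp [pow_two, MvPolynomial.pderiv_X] at e1
  rcases e0 with (h0 | h0) | h0 <;> simp [h0] at e1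

/-- A substitution sending the variables to multiples of two of the linear forms. -/
lemma subst_rows (la mu : Fin 4 → k) (i j : Fin 4) (u v : k) :
    subst !![u * mu i, -(u * la i); v * mu j, -(v * la j)] (MvPolynomial.X 0) =
        MvPolynomial.C u * (MvPolynomial.C (mu i) * MvPolynomial.X 0 - MvPolynomial.C (la i) * MvPolynomial.X 1) ∧
      subst !![u * mu i, -(u * la i); v * mu j, -(v * la j)] (MvPolynomial.X 1) =
        MvPolynomial.C v * (MvPolynomial.C (mu j) * MvPolynomial.X 0 - MvPolynomial.C (la j) * MvPolynomial.X 1) := by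
  constructor <;> · simp [subst_X]; ring

/-- A double zero and no triple zero. -/
theorem degenerate_forms {la mu : Fin 4 → k} (hne : ∀ i, la i ≠ 0 ∨ mu i ≠ 0) (h01 : br la mu 0 1 = 0)
    (h02 : br la mu 0 2 ≠ 0) (h03 : br la mu 0 3 ≠ 0) :
    (∃ (M : Matrix (Fin 2) (Fin 2) k) (c : k), IsUnit M.det ∧ c ≠ 0 ∧ binForm la mu = MvPolynomial.C c * subst M
      (MvPolynomial.X 0 ^ 2 * MvPolynomial.X 1 * (MvPolynomial.X 0 - MvPolynomial.X 1))) ∨
    (∃ (M : Matrix (Fin 2) (Fin 2) k) (c : k), IsUnit M.det ∧ c ≠ 0 ∧ binForm la mu = MvPolynomial.C c * subst M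
      (MvPolynomial.X 0 ^ 2 * MvPolynomial.X 1 ^ 2)) := by
  have prop : ∀ i j : Fin 4, br la mu i j = 0 → ∃ s : k, s ≠ 0 ∧ la j = s * la i ∧ mu j = s * mu i := by
    intro i j hij
    simp only [br, sub_eq_zero] at hij
    rcases hne i with hi | hi
    · refine ⟨la j / la i, ?_, by field_simp, by field_simp; linear_combination hij⟩
      refine div_ne_zero (fun h0 => ?_) hi
      have hm : mu j ≠ 0 := (hne j).resolve_left (not_not.2 h0)
      exact mul_ne_zero hi hm (by rw [hij, h0, zero_mul])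
    · refine ⟨mu j / mu i, ?_, by field_simp; linear_combination -hij, by field_simp⟩
      refine div_ne_zero (fun h0 => ?_) hi
      have hm : la j ≠ 0 := (hne j).resolve_right (not_not.2 h0)
      exact mul_ne_zero hm hi (by rw [← hij, h0, mul_zero])
  obtain ⟨s, hs, hsl, hsm⟩ := prop 0 1 h01
  by_cases h23 : br la mu 2 3 = 0
  · obtain ⟨t, ht, htl, htm⟩ := prop 2 3 h23
    right
    obtain ⟨e0, e1⟩ := subst_rows la mu 0 2 1 1
    refine ⟨!![1 * mu 0, -(1 * la 0); 1 * mu 2, -(1 * la 2)], s * t, ?_, mul_ne_zero hs ht, ?_⟩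
    · rw [isUnit_iff_ne_zero]
      convert h02 using 1
      simp [Matrix.det_fin_two, br]
      ring
    · simp only [map_mul, map_pow, e0, e1, binForm, Fin.prod_univ_four, hsl, hsm, htl, htm, map_mul, map_one]
      ring
  · left
    have h32 : br la mu 3 2 ≠ 0 := fun h => h23 (by simp only [br] at h ⊢; linear_combination -h)
    obtain ⟨e0, e1⟩ := subst_rows la mu 0 2 (br la mu 3 2) (-br la mu 0 3)
    refine ⟨!![br la mu 3 2 * mu 0, -(br la mu 3 2 * la 0); -br la mu 0 3 * mu 2, -(-br la mu 0 3 * la 2)], s / (-(br la mu 3 2) ^ 2 * br la mu 0 3 * br la mu 0 2), ?_,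
      div_ne_zero hs (mul_ne_zero (mul_ne_zero (neg_ne_zero.2 (pow_ne_zero 2 h32)) h03) h02), ?_⟩
    · rw [isUnit_iff_ne_zero, Matrix.det_fin_two]
      have hd : (-(br la mu 3 2 * br la mu 0 3)) * br la mu 0 2 ≠ 0 :=
        mul_ne_zero (neg_ne_zero.2 (mul_ne_zero h32 h03)) h02
      convert hd using 1
      simp [br]
      ring
    · have hid : MvPolynomial.C (br la mu 3 2) * (MvPolynomial.C (mu 0) * MvPolynomial.X (R := k) (0 : Fin 2) - MvPolynomial.C (la 0) * MvPolynomial.X 1) -
          MvPolynomial.C (-br la mu 0 3) * (MvPolynomial.C (mu 2) * MvPolynomial.X 0 - MvPolynomial.C (la 2) * MvPolynomial.X 1) =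
          MvPolynomial.C (br la mu 0 2) * (MvPolynomial.C (mu 3) * MvPolynomial.X 0 - MvPolynomial.C (la 3) * MvPolynomial.X 1) := by
        simp only [br, map_sub, map_mul, map_neg]
        ring
      simp only [map_mul, map_pow, map_sub, e0, e1, hid, binForm, Fin.prod_univ_four, hsl, hsm]
      set L : Fin 4 → MvPolynomial (Fin 2) k := fun i =>
        MvPolynomial.C (mu i) * MvPolynomial.X 0 - MvPolynomial.C (la i) * MvPolynomial.X 1 with hL
      have hc : MvPolynomial.C (σ := Fin 2) (s / (-(br la mu 3 2) ^ 2 * br la mu 0 3 * br la mu 0 2)) *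
          (MvPolynomial.C (br la mu 3 2) ^ 2 * MvPolynomial.C (-br la mu 0 3) * MvPolynomial.C (br la mu 0 2)) =
          MvPolynomial.C s := by
        rw [← map_pow, ← map_mul, ← map_mul, ← map_mul]
        congr 1
        field_simp
      linear_combination -(L 0 ^ 2 * L 2 * L 3) * hc

end Groth.Agent.Quartic28
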